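import Cfsg.Agent.Lib.H23.ContribD

/-!
# S4539 (major subsection with `l(b) ≤ 2` gives `k(B) ≤ p^d`): shared definitions (helper28)

* `galW z c k = ∑_ξ c ξ · ξ(z^k)/ξ(1)`: an integer combination of the roots of unity `λ_ξ(z^k)`;
* `formH α β γ x y x' y'`: the Hermitian form with integral Gram matrix `(α β; β γ)`;
* `resNat H χ ξ`: the multiplicity `[χ|_H, ξ]` as a natural number;
* `cfD H b D χ ξ = [χ|_H, ξ] · D ξ` for `ξ ∈ b`, `0` otherwise.
-/

set_option autoImplicit false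

namespace Cfsg.Agent.Lib.H28.KB

open Cfsg Cfsg.Agent.Lib.H23 Cfsg.Agent.Lib.H23.Contrib
open scoped ComplexConjugate

/-- `∑_ξ c ξ · ξ(z^k)/ξ(1)`. -/
noncomputable def galW {K : Type*} [Group K] [Fintype (IrrCharacter K)] (z : K)
    (c : IrrCharacter K → ℤ) (k : ℕ) : ℂ :=
  ∑ ξ : IrrCharacter K, (c ξ : ℂ) * ((ξ : K → ℂ) (z ^ k) / (ξ : K → ℂ) 1)

/-- The Hermitian form with Gram matrix `(α β; β γ)`. -/
noncomputable def formH (α β γ : ℤ) (x y x' y' : ℂ) : ℂ :=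
  (α : ℂ) * (x * conj x') + (β : ℂ) * (x * conj y' + y * conj x') + (γ : ℂ) * (y * conj y')

/-- The multiplicity `[χ|_H, ξ]` as a natural number. -/
noncomputable def resNat {G : Type*} [Group G] [Fintype G] (H : Subgroup G) [Fintype H]
    (χ : IrrCharacter G) (ξ : IrrCharacter H) : ℕ :=
  Classical.choose (resMult_nat H χ ξ)

theorem resNat_spec {G : Type*} [Group G] [Fintype G] (H : Subgroup G) [Fintype H]
    (χ : IrrCharacter G) (ξ : IrrCharacter H) :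
    resMult H (χ : G → ℂ) (ξ : H → ℂ) = (resNat H χ ξ : ℂ) :=
  Classical.choose_spec (resMult_nat H χ ξ)

/-- The integer coefficients `[χ|_H, ξ] · D ξ` (`ξ ∈ b`). -/
noncomputable def cfD {G : Type*} [Group G] [Fintype G] (H : Subgroup G) [Fintype H]
    (b : Set (IrrCharacter H)) [DecidablePred (· ∈ b)] (D : IrrCharacter H → ℤ)
    (χ : IrrCharacter G) (ξ : IrrCharacter H) : ℤ :=
  if ξ ∈ b then (resNat H χ ξ : ℤ) * D ξ else 0

/-- `p^d · contrib(y^k)`, `k ∈ (ℤ/m)ˣ`. -/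
noncomputable def pcontrib {G : Type*} [Group G] [Fintype G] (p : ℕ) (H : Subgroup G) [Fintype H]
    (b : Set (IrrCharacter H)) (d : ℕ) (y : H) (m : ℕ) (k : (ZMod m)ˣ) (χ ψ : G → ℂ) : ℂ :=
  (p : ℂ) ^ d * contrib p H b (y ^ (k : ZMod m).val) χ ψ

end Cfsg.Agent.Lib.H28.KB
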