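import Cfsg.Agent.Lib.H28.KB.Defs

/-!
# S4539, piece ABS: the abstract counting inequality (helper28 twin)
-/

set_option autoImplicit false

namespace Cfsg.Agent.Lib.H28.KB

open scoped ComplexConjugate

theorem formH_self_re (α β γ : ℤ) (x y : ℂ) :
    (formH α β γ x y x y).re =
      ((α : ℝ) - β) * ‖x‖ ^ 2 + ((γ : ℝ) - β) * ‖y‖ ^ 2 + (β : ℝ) * ‖x + y‖ ^ 2 := by
  unfold formH
  rw [Complex.sq_norm, Complex.sq_norm, Complex.sq_norm]
  simp only [Complex.normSq_apply, Complex.add_re, Complex.add_im, Complex.mul_re, Complex.mul_im,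
    Complex.conj_re, Complex.conj_im, Complex.intCast_re, Complex.intCast_im]
  ring

theorem formH_zero_right (α β γ : ℤ) (x y : ℂ) : formH α β γ x y 0 0 = 0 := by
  unfold formH
  simp

/-- Double counting. -/
theorem card_mul_le_of_bounds {ι κ : Type*} [Fintype ι] [Fintype κ] (N : ι → κ → ℝ) (c T : ℝ)
    (h1 : ∀ i, c ≤ ∑ k, N i k) (h2 : ∀ k, ∑ i, N i k ≤ T) :
    (Fintype.card ι : ℝ) * c ≤ (Fintype.card κ : ℝ) * T := by
  have e1 : (Fintype.card ι : ℝ) * c = ∑ _i : ι, c := by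
    rw [Finset.sum_const, Finset.card_univ, nsmul_eq_mul]
  have e2 : (Fintype.card κ : ℝ) * T = ∑ _k : κ, T := by
    rw [Finset.sum_const, Finset.card_univ, nsmul_eq_mul]
  rw [e1, e2]
  calc ∑ _i : ι, c ≤ ∑ i, ∑ k, N i k := Finset.sum_le_sum fun i _ => h1 i
    _ = ∑ k, ∑ i, N i k := Finset.sum_comm
    _ ≤ ∑ _k : κ, T := Finset.sum_le_sum fun k _ => h2 k

theorem card_le_of_form_bounds {ι κ : Type*} [Fintype ι] [Fintype κ] (one : κ)
    (α β γ : ℤ) (hα : 0 < α) (hβ0 : 0 ≤ 2 * β) (hβα : 2 * β ≤ α) (hαγ : α ≤ γ)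
    (X Y : ι → κ → ℂ) (P : ℝ) (hP : 0 < P) (p : ℕ) (hp : 2 ≤ p) (h : ι → ℕ)
    (hX : ∀ i, (X i one = 0 → ∀ k, X i k = 0) ∧
      (X i one ≠ 0 → (∀ k, X i k ≠ 0) ∧ (Fintype.card κ : ℝ) ≤ ∑ k, ‖X i k‖ ^ 2))
    (hY : ∀ i, (Y i one = 0 → ∀ k, Y i k = 0) ∧
      (Y i one ≠ 0 → (∀ k, Y i k ≠ 0) ∧ (Fintype.card κ : ℝ) ≤ ∑ k, ‖Y i k‖ ^ 2))
    (hXY : ∀ i, (X i one + Y i one = 0 → ∀ k, X i k + Y i k = 0) ∧
      (X i one + Y i one ≠ 0 → (∀ k, X i k + Y i k ≠ 0) ∧
        (Fintype.card κ : ℝ) ≤ ∑ k, ‖X i k + Y i k‖ ^ 2))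
    (hT : ∀ k, ∑ i, (formH α β γ (X i k) (Y i k) (X i k) (Y i k)).re ≤ 2 * P)
    (hI : ∀ i k, ∑ j, ‖formH α β γ (X i k) (Y i k) (X j k) (Y j k)‖ ^ 2 ≤
      P * (formH α β γ (X i k) (Y i k) (X i k) (Y i k)).re)
    (hNZ : ∀ i j, h i = 0 → formH α β γ (X i one) (Y i one) (X j one) (Y j one) ≠ 0)
    (hH : ∀ i, (Fintype.card κ : ℝ) * (p : ℝ) ^ h i ≤
      ∑ k, (formH α β γ (X i k) (Y i k) (X i k) (Y i k)).re)
    (h0 : Nonempty ι → ∃ i, h i = 0) :
    (Fintype.card ι : ℝ) ≤ P := by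
  classical
  have : Nonempty κ := ⟨one⟩
  set φ : ℝ := (Fintype.card κ : ℝ) with hφ
  have hφpos : 0 < φ := by
    rw [hφ]
    exact_mod_cast Fintype.card_pos
  rcases isEmpty_or_nonempty ι with hemp | hne
  · rw [Fintype.card_eq_zero]
    simpa using hP.le
  -- integer facts
  have hβ : 0 ≤ β := by omega
  have hβR : (0 : ℝ) ≤ β := by exact_mod_cast hβ
  have hαβ : (0 : ℝ) ≤ (α : ℝ) - β := by
    have : β ≤ α := by omega
    have : (β : ℝ) ≤ α := by exact_mod_cast this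
    linarith
  have hγβ : (0 : ℝ) ≤ (γ : ℝ) - β := by
    have : β ≤ γ := by omega
    have : (β : ℝ) ≤ γ := by exact_mod_cast this
    linarith
  have hαγR : (α : ℝ) ≤ γ := by exact_mod_cast hαγ
  have hβαR : 2 * (β : ℝ) ≤ α := by exact_mod_cast hβα
  -- the Galois sums of the diagonal
  have hsum : ∀ i, ∑ k, (formH α β γ (X i k) (Y i k) (X i k) (Y i k)).re =
      ((α : ℝ) - β) * ∑ k, ‖X i k‖ ^ 2 + ((γ : ℝ) - β) * ∑ k, ‖Y i k‖ ^ 2 +
        (β : ℝ) * ∑ k, ‖X i k + Y i k‖ ^ 2 := by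
    intro i
    simp only [formH_self_re]
    rw [Finset.sum_add_distrib, Finset.sum_add_distrib, Finset.mul_sum, Finset.mul_sum,
      Finset.mul_sum]
  have hSX0 : ∀ i, 0 ≤ ∑ k, ‖X i k‖ ^ 2 := fun i => Finset.sum_nonneg fun k _ => by positivity
  have hSY0 : ∀ i, 0 ≤ ∑ k, ‖Y i k‖ ^ 2 := fun i => Finset.sum_nonneg fun k _ => by positivity
  have hSXY0 : ∀ i, 0 ≤ ∑ k, ‖X i k + Y i k‖ ^ 2 :=
    fun i => Finset.sum_nonneg fun k _ => by positivity
  -- a height zero element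
  obtain ⟨i₀, hi₀⟩ := h0 hne
  -- nonvanishing of the pair
  have hpair : ∀ j, X j one ≠ 0 ∨ Y j one ≠ 0 := by
    intro j
    by_contra hcon
    rw [not_or, not_not, not_not] at hcon
    have := hNZ i₀ j hi₀
    rw [hcon.1, hcon.2, formH_zero_right] at this
    exact this rfl
  rcases lt_or_ge (1 : ℤ) α with hα2 | hα1
  · -- `α ≥ 2`
    have hα2R : (2 : ℝ) ≤ α := by exact_mod_cast hα2
    have hlow : ∀ i, (α : ℝ) * φ ≤ ∑ k, (formH α β γ (X i k) (Y i k) (X i k) (Y i k)).re := by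
      intro i
      rw [hsum i]
      by_cases hx : X i one = 0
      · have hy : Y i one ≠ 0 := (hpair i).resolve_left (not_not.2 hx)
        have h1 := ((hY i).2 hy).2
        have hxy : X i one + Y i one ≠ 0 := by rw [hx, zero_add]; exact hy
        have h2 := ((hXY i).2 hxy).2
        have := hSX0 i
        nlinarith [mul_le_mul_of_nonneg_left h1 hγβ, mul_le_mul_of_nonneg_left h2 hβR,
          mul_nonneg hαβ this]
      · have h1 := ((hX i).2 hx).2
        by_cases hy : Y i one = 0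
        · have hxy : X i one + Y i one ≠ 0 := by rw [hy, add_zero]; exact hx
          have h2 := ((hXY i).2 hxy).2
          have := hSY0 i
          nlinarith [mul_le_mul_of_nonneg_left h1 hαβ, mul_le_mul_of_nonneg_left h2 hβR,
            mul_nonneg hγβ this]
        · have h2 := ((hY i).2 hy).2
          have := hSXY0 i
          nlinarith [mul_le_mul_of_nonneg_left h1 hαβ, mul_le_mul_of_nonneg_left h2 hγβ,
            mul_nonneg hβR this]
    have hfin := card_mul_le_of_bounds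
      (fun i k => (formH α β γ (X i k) (Y i k) (X i k) (Y i k)).re) ((α : ℝ) * φ) (2 * P) hlow hT
    -- `card ι * (α φ) ≤ φ * (2 P)`
    have hc0 : (0 : ℝ) ≤ Fintype.card ι := by positivity
    have h3 : (Fintype.card ι : ℝ) * 2 * φ ≤ φ * (2 * P) := by
      have : (Fintype.card ι : ℝ) * 2 * φ ≤ (Fintype.card ι : ℝ) * ((α : ℝ) * φ) := by
        have : (2 : ℝ) * φ ≤ (α : ℝ) * φ := mul_le_mul_of_nonneg_right hα2R hφpos.le
        nlinarith
      exact this.trans hfin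
    have h4 : φ * (2 * (Fintype.card ι : ℝ)) ≤ φ * (2 * P) := by
      calc φ * (2 * (Fintype.card ι : ℝ)) = (Fintype.card ι : ℝ) * 2 * φ := by ring
        _ ≤ φ * (2 * P) := h3
    have h5 := le_of_mul_le_mul_left h4 hφpos
    linarith
  · -- `α = 1`, `β = 0`
    have hα1' : α = 1 := by omega
    have hβ0' : β = 0 := by omega
    subst hα1' hβ0'
    have hγ1 : (1 : ℝ) ≤ γ := by exact_mod_cast hαγ
    have hform : ∀ x y x' y' : ℂ, formH 1 0 γ x y x' y' = x * conj x' + (γ : ℂ) * (y * conj y') := by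
      intro x y x' y'
      unfold formH
      push_cast
      ring
    have hsum' : ∀ i, ∑ k, (formH 1 0 γ (X i k) (Y i k) (X i k) (Y i k)).re =
        ∑ k, ‖X i k‖ ^ 2 + (γ : ℝ) * ∑ k, ‖Y i k‖ ^ 2 := by
      intro i
      rw [hsum i]
      push_cast
      ring
    have hdiag : ∀ i k, (formH 1 0 γ (X i k) (Y i k) (X i k) (Y i k)).re =
        ‖X i k‖ ^ 2 + (γ : ℝ) * ‖Y i k‖ ^ 2 := by
      intro i k
      rw [formH_self_re]
      push_cast
      ring
    by_cases hA : ∃ i, h i = 0 ∧ Y i one = 0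
    · -- case (a)
      obtain ⟨i₁, hi₁, hY1⟩ := hA
      have hYk : ∀ k, Y i₁ k = 0 := (hY i₁).1 hY1
      have hXj : ∀ j, X j one ≠ 0 := by
        intro j
        have := hNZ i₁ j hi₁
        rw [hform, hY1, zero_mul, mul_zero, add_zero] at this
        intro hz
        rw [hz, map_zero, mul_zero] at this
        exact this rfl
      have hXk : ∀ k, X i₁ k ≠ 0 := ((hX i₁).2 (hXj i₁)).1
      have hcol : ∀ k, ∑ j, ‖X j k‖ ^ 2 ≤ P := by
        intro k
        have := hI i₁ k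
        rw [hdiag, hYk k, norm_zero] at this
        simp only [hform, zero_mul, mul_zero, add_zero, norm_mul, Complex.norm_conj,
          mul_pow] at this
        rw [← Finset.mul_sum] at this
        have hpos : 0 < ‖X i₁ k‖ ^ 2 := by
          have := norm_pos_iff.2 (hXk k)
          positivity
        have h2 : ‖X i₁ k‖ ^ 2 * ∑ j, ‖X j k‖ ^ 2 ≤ ‖X i₁ k‖ ^ 2 * P := by
          calc ‖X i₁ k‖ ^ 2 * ∑ j, ‖X j k‖ ^ 2 ≤ P * (‖X i₁ k‖ ^ 2 + (γ : ℝ) * 0 ^ 2) := this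
            _ = ‖X i₁ k‖ ^ 2 * P := by ring
        exact le_of_mul_le_mul_left h2 hpos
      have hfin := card_mul_le_of_bounds (fun j k => ‖X j k‖ ^ 2) φ P
        (fun j => ((hX j).2 (hXj j)).2) hcol
      have h4 : φ * (Fintype.card ι : ℝ) ≤ φ * P := by
        calc φ * (Fintype.card ι : ℝ) = (Fintype.card ι : ℝ) * φ := by ring
          _ ≤ φ * P := hfin
      exact le_of_mul_le_mul_left h4 hφpos
    by_cases hB : ∃ i, h i = 0 ∧ X i one = 0
    · -- case (b)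
      obtain ⟨i₁, hi₁, hX1⟩ := hB
      have hXk : ∀ k, X i₁ k = 0 := (hX i₁).1 hX1
      have hγ0 : (γ : ℂ) ≠ 0 := by
        have : (0 : ℤ) < γ := by omega
        exact_mod_cast this.ne'
      have hYj : ∀ j, Y j one ≠ 0 := by
        intro j
        have := hNZ i₁ j hi₁
        rw [hform, hX1, zero_mul, zero_add] at this
        intro hz
        rw [hz, map_zero, mul_zero, mul_zero] at this
        exact this rfl
      have hYk : ∀ k, Y i₁ k ≠ 0 := ((hY i₁).2 (hYj i₁)).1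
      have hγpos : (0 : ℝ) < γ := by linarith
      have hcol : ∀ k, ∑ j, ‖Y j k‖ ^ 2 ≤ P := by
        intro k
        have := hI i₁ k
        rw [hdiag, hXk k, norm_zero] at this
        simp only [hform, zero_mul, zero_add, norm_mul, Complex.norm_conj,
          mul_pow, Complex.norm_intCast] at this
        rw [← Finset.mul_sum, ← Finset.mul_sum] at this
        have hpos : 0 < ‖Y i₁ k‖ ^ 2 := by
          have := norm_pos_iff.2 (hYk k)
          positivity
        have habs : |(γ : ℝ)| = γ := abs_of_pos hγpos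
        rw [habs] at this
        have h2 : ((γ : ℝ) * ‖Y i₁ k‖ ^ 2) * ((γ : ℝ) * ∑ j, ‖Y j k‖ ^ 2) ≤
            ((γ : ℝ) * ‖Y i₁ k‖ ^ 2) * P := by
          calc ((γ : ℝ) * ‖Y i₁ k‖ ^ 2) * ((γ : ℝ) * ∑ j, ‖Y j k‖ ^ 2)
              = (γ : ℝ) ^ 2 * (‖Y i₁ k‖ ^ 2 * ∑ j, ‖Y j k‖ ^ 2) := by ring
            _ ≤ P * (0 ^ 2 + (γ : ℝ) * ‖Y i₁ k‖ ^ 2) := this
            _ = ((γ : ℝ) * ‖Y i₁ k‖ ^ 2) * P := by ring
        have h3 := le_of_mul_le_mul_left h2 (mul_pos hγpos hpos)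
        have h5 : ∑ j, ‖Y j k‖ ^ 2 ≤ (γ : ℝ) * ∑ j, ‖Y j k‖ ^ 2 := by
          have : 0 ≤ ∑ j, ‖Y j k‖ ^ 2 := Finset.sum_nonneg fun j _ => by positivity
          nlinarith
        exact h5.trans h3
      have hfin := card_mul_le_of_bounds (fun j k => ‖Y j k‖ ^ 2) φ P
        (fun j => ((hY j).2 (hYj j)).2) hcol
      have h4 : φ * (Fintype.card ι : ℝ) ≤ φ * P := by
        calc φ * (Fintype.card ι : ℝ) = (Fintype.card ι : ℝ) * φ := by ring
          _ ≤ φ * P := hfin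
      exact le_of_mul_le_mul_left h4 hφpos
    · -- case (c)
      simp only [not_exists, not_and] at hA hB
      have hlow : ∀ i, 2 * φ ≤ ∑ k, (formH 1 0 γ (X i k) (Y i k) (X i k) (Y i k)).re := by
        intro i
        by_cases hi : h i = 0
        · rw [hsum' i]
          have h1 := ((hX i).2 (hB i hi)).2
          have h2 := ((hY i).2 (hA i hi)).2
          nlinarith [mul_le_mul_of_nonneg_left h2 (by linarith : (0 : ℝ) ≤ γ)]
        · refine le_trans ?_ (hH i)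
          have h1 : (2 : ℝ) ≤ (p : ℝ) ^ h i := by
            have hp' : (2 : ℝ) ≤ p := by exact_mod_cast hp
            have hh : 1 ≤ h i := Nat.one_le_iff_ne_zero.2 hi
            calc (2 : ℝ) ≤ (p : ℝ) ^ 1 := by rw [pow_one]; exact hp'
              _ ≤ (p : ℝ) ^ h i := pow_le_pow_right₀ (by linarith) hh
          rw [mul_comm]
          exact mul_le_mul_of_nonneg_left h1 hφpos.le
      have hfin := card_mul_le_of_bounds
        (fun i k => (formH 1 0 γ (X i k) (Y i k) (X i k) (Y i k)).re) (2 * φ) (2 * P) hlow hT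
      have h4 : φ * (2 * (Fintype.card ι : ℝ)) ≤ φ * (2 * P) := by
        calc φ * (2 * (Fintype.card ι : ℝ)) = (Fintype.card ι : ℝ) * (2 * φ) := by ring
          _ ≤ φ * (2 * P) := hfin
      have h5 := le_of_mul_le_mul_left h4 hφpos
      linarith

end Cfsg.Agent.Lib.H28.KB
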