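import Cfsg.Agent.Lib.H28.KB.Defs
import Cfsg.Agent.Lib.H23.ContribI
import Cfsg.Agent.Lib.H23.ContribH

/-!
# S4539, piece GS: Galois sums of integer combinations of the roots of unity `ξ(z^k)/ξ(1)` (helper28)
-/

set_option autoImplicit false

namespace Cfsg.Agent.Lib.H28.KB

open Cfsg Cfsg.Agent.Lib.H23 Cfsg.Agent.Lib.H23.Contrib Cfsg.Agent.Lib.H24
open scoped ComplexConjugate

/-- `galW z c (k.val)`, `k ∈ (ℤ/m)ˣ`, are the Galois conjugates of one element of the `m`-th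
cyclotomic field. -/
theorem exists_cyc_galW {K : Type*} [Group K] [Fintype K] [Fintype (IrrCharacter K)] (m : ℕ)
    [NeZero m] (hm : ∀ h : K, h ^ m = 1) (z : K) (c : IrrCharacter K → ℤ) :
    ∃ x : CyclotomicField m ℚ, ∀ σ : Gal(CyclotomicField m ℚ/ℚ),
      cycEmb m (σ x) = galW z c (cycPow m σ).val := by
  classical
  have h1 : ∀ ξ : IrrCharacter K, ∃ x : CyclotomicField m ℚ,
      ∀ σ : Gal(CyclotomicField m ℚ/ℚ),
      cycEmb m (σ x) = (ξ : K → ℂ) (z ^ (cycPow m σ).val) :=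
    fun ξ => exists_cyc_irr m ξ z (hm z)
  choose X hX using h1
  have h2 : ∀ ξ : IrrCharacter K, ∃ n : ℕ, 0 < n ∧ (ξ : K → ℂ) 1 = n := fun ξ => irr_one_eq ξ
  choose nn hnn0 hnn using h2
  refine ⟨∑ ξ : IrrCharacter K,
    algebraMap ℚ (CyclotomicField m ℚ) ((c ξ : ℚ) / (nn ξ : ℚ)) * X ξ, ?_⟩
  intro σ
  rw [map_sum, map_sum]
  unfold galW
  refine Finset.sum_congr rfl fun ξ _ => ?_
  rw [map_mul, map_mul, AlgEquiv.commutes, AlgHom.commutes, hX ξ σ, hnn ξ]
  have : (algebraMap ℚ ℂ) ((c ξ : ℚ) / (nn ξ : ℚ)) = (c ξ : ℂ) / (nn ξ : ℂ) := by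
    simp
  rw [this]
  ring

theorem galW_galois {K : Type*} [Group K] [Fintype K] [Fintype (IrrCharacter K)] (m : ℕ) [NeZero m]
    (hm : ∀ h : K, h ^ m = 1) {z : K} (hz : z ∈ Subgroup.center K) (c : IrrCharacter K → ℤ) :
    (galW z c ((1 : (ZMod m)ˣ) : ZMod m).val = 0 →
        ∀ k : (ZMod m)ˣ, galW z c (k : ZMod m).val = 0) ∧
    (galW z c ((1 : (ZMod m)ˣ) : ZMod m).val ≠ 0 →
        (∀ k : (ZMod m)ˣ, galW z c (k : ZMod m).val ≠ 0) ∧
        (Fintype.card (ZMod m)ˣ : ℝ) ≤ ∑ k : (ZMod m)ˣ, ‖galW z c (k : ZMod m).val‖ ^ 2) := by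
  classical
  obtain ⟨x, hx⟩ := exists_cyc_galW m hm z c
  -- the value at `k` in terms of the Galois group
  have hk : ∀ k : (ZMod m)ˣ, galW z c (k : ZMod m).val = cycEmb m (((cycGalEquiv m).symm k) x) := by
    intro k
    rw [hx]
    unfold cycPow
    rw [MulEquiv.apply_symm_apply]
  have h1 : galW z c ((1 : (ZMod m)ˣ) : ZMod m).val = cycEmb m x := by
    rw [hk 1, map_one, AlgEquiv.one_apply]
  have hinj := cycEmb_injective m
  refine ⟨?_, ?_⟩
  · intro h0 k
    rw [h1] at h0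
    have hx0 : x = 0 := hinj (by rw [h0, map_zero])
    rw [hk k, hx0, map_zero, map_zero]
  · intro hne
    rw [h1] at hne
    have hx0 : x ≠ 0 := by
      rintro rfl
      exact hne (map_zero _)
    refine ⟨?_, ?_⟩
    · intro k
      rw [hk k]
      intro h
      have : ((cycGalEquiv m).symm k) x = 0 := hinj (by rw [h, map_zero])
      exact hx0 ((map_eq_zero_iff _ (AlgEquiv.injective _)).1 this)
    · -- integrality
      have hint : IsIntegral ℤ (cycEmb m x) := by
        rw [← h1]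
        unfold galW
        refine IsIntegral.sum _ fun ξ _ => ?_
        refine IsIntegral.mul isIntegral_algebraMap ?_
        have hzk : z ^ ((1 : (ZMod m)ˣ) : ZMod m).val ∈ Subgroup.center K :=
          Subgroup.pow_mem _ hz _
        exact lam_isIntegral ξ hzk
      obtain ⟨N, hN0, hN⟩ := exists_int_prod_galois m x hint hne
      have hsum : ∑ k : (ZMod m)ˣ, ‖galW z c (k : ZMod m).val‖ ^ 2 =
          ∑ σ : Gal(CyclotomicField m ℚ/ℚ), ‖cycEmb m (σ x)‖ ^ 2 := by
        symm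
        refine Fintype.sum_equiv (cycGalEquiv m).toEquiv _ _ fun σ => ?_
        rw [hx σ]
        rfl
      rw [hsum]
      have hcard : Fintype.card (ZMod m)ˣ = Fintype.card Gal(CyclotomicField m ℚ/ℚ) :=
        (Fintype.card_congr (cycGalEquiv m).toEquiv).symm
      rw [hcard]
      apply card_le_sum_of_one_le_prod
      · intro σ; positivity
      · rw [Finset.prod_pow, ← norm_prod, hN]
        have h2 : (1 : ℝ) ≤ ‖(N : ℂ)‖ := by
          rw [Complex.norm_intCast]
          exact_mod_cast Int.one_le_abs hN0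
        nlinarith

end Cfsg.Agent.Lib.H28.KB
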